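import Groth.Agent.L25.MaxTorus.Level

/-!
# The power map by the torsion exponent and its image, the maximal torus
-/

set_option autoImplicit false
universe u

open CategoryTheory CategoryTheory.Limits MonoidalCategory CartesianMonoidalCategory AlgebraicGeometry
open TopologicalSpace
open scoped MonObj

set_option backward.isDefEq.respectTransparency.types false
set_option linter.style.haveILetI false

noncomputable section

namespace Groth.L25.MaxTorus

open Groth.L25.SplitSub Groth.L25.NilAction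

variable {S : Scheme.{u}} {H : Over S} [GrpObj H] (lv : S → ℕ) (hlv : ∀ n, IsOpen {s | lv s = n})

/-- the open where the exponent is `n` -/
def level (n : ℕ) : S.Opens := ⟨{s | lv s = n}, hlv n⟩

/-- the part of `H` where the exponent is `n` -/
def piece (H : Over S) (n : ℕ) : H.left.Opens := H.hom ⁻¹ᵁ level lv hlv n

theorem mem_piece {n : ℕ} {x : H.left} : x ∈ piece lv hlv H n ↔ lv (H.hom x) = n := Iff.rfl

variable (H) in
/-- the cover of `H` by the levels -/
def levelCover : H.left.OpenCover :=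
  H.left.openCoverOfIsOpenCover (fun i : ULift.{u} ℕ => piece lv hlv H i.down) (IsOpenCover.mk
    (top_le_iff.1 fun x _ => Opens.mem_iSup.2 ⟨⟨lv (H.hom x)⟩, rfl⟩))

variable (H) in
/-- the power map on one level -/
def powPiece (i : ULift.{u} ℕ) : (piece lv hlv H i.down).toScheme ⟶ H.left :=
  (piece lv hlv H i.down).ι ≫ ((𝟙 H : H ⟶ H) ^ i.down).left

variable (H) in
/-- the map `x ↦ x ^ lv` -/
def powMap : H ⟶ H :=
  Over.homMk ((levelCover H lv hlv).glueMorphisms (fun i => powPiece H lv hlv i) fun i j => by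
    rcases isEmpty_or_nonempty ↥(pullback ((levelCover H lv hlv).f i) ((levelCover H lv hlv).f j)) with he | ⟨⟨x⟩⟩
    · exact (isInitialOfIsEmpty).hom_ext _ _
    · have h : (levelCover H lv hlv).f i (pullback.fst ((levelCover H lv hlv).f i) ((levelCover H lv hlv).f j) x) =
          (levelCover H lv hlv).f j (pullback.snd ((levelCover H lv hlv).f i) ((levelCover H lv hlv).f j) x) := by
        rw [← Scheme.Hom.comp_apply, ← Scheme.Hom.comp_apply, pullback.condition]
      obtain rfl : i = j := by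
        have hi := (pullback.fst ((levelCover H lv hlv).f i) ((levelCover H lv hlv).f j) x).2
        have hj := (pullback.snd ((levelCover H lv hlv).f i) ((levelCover H lv hlv).f j) x).2
        exact ULift.ext _ _ ((mem_piece lv hlv).1 hi ▸ (show _ = j.down from
          (congrArg (fun y => lv (H.hom y)) h).trans ((mem_piece lv hlv).1 hj)))
      rw [fst_eq_snd_of_mono_eq ((levelCover H lv hlv).f i)])
    ((levelCover H lv hlv).hom_ext _ _ fun i => by
      rw [Scheme.Cover.ι_glueMorphisms_assoc]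
      exact (Category.assoc _ _ _).trans
        (congrArg ((piece lv hlv H i.down).ι ≫ ·) (Over.w ((𝟙 H : H ⟶ H) ^ i.down))))

theorem comp_pow' {X Y Z : Over S} [GrpObj Z] (a : X ⟶ Y) (b : Y ⟶ Z) (n : ℕ) : a ≫ (b ^ n) = (a ≫ b) ^ n := by
  induction n with
  | zero => rw [pow_zero, pow_zero, MonObj.comp_one]
  | succ n ih => rw [pow_succ, pow_succ, MonObj.comp_mul, ih]

theorem pow_comp' {X Y Z : Over S} [GrpObj Y] [GrpObj Z] (a : X ⟶ Y) (b : Y ⟶ Z) [IsMonHom b] (n : ℕ) :
    (a ^ n) ≫ b = (a ≫ b) ^ n := by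
  induction n with
  | zero => rw [pow_zero, pow_zero, MonObj.one_comp]
  | succ n ih => rw [pow_succ, pow_succ, MonObj.mul_comp, ih]

theorem comp_powMap {T : Over S} (a : T ⟶ H) {n : ℕ} (hn : ∀ y, lv (T.hom y) = n) :
    a ≫ powMap H lv hlv = a ^ n := by
  have hr : Set.range a.left ⊆ Set.range (piece lv hlv H n).ι := by
    rw [Scheme.Opens.range_ι]
    rintro _ ⟨y, rfl⟩
    rw [SetLike.mem_coe, mem_piece, ← Scheme.Hom.comp_apply, Over.w]
    exact hn y
  let l := IsOpenImmersion.lift (piece lv hlv H n).ι a.left hr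
  have hl : l ≫ (piece lv hlv H n).ι = a.left := IsOpenImmersion.lift_fac _ _ _
  have h1 : (piece lv hlv H n).ι ≫ (powMap H lv hlv).left = powPiece H lv hlv ⟨n⟩ := by
    simp only [powMap, Over.homMk_left]
    exact (levelCover H lv hlv).ι_glueMorphisms (fun i => powPiece H lv hlv i) _ ⟨n⟩
  rw [show a ^ n = a ≫ ((𝟙 H : H ⟶ H) ^ n) by rw [comp_pow', Category.comp_id]]
  refine Over.OverMorphism.ext ?_
  simp only [Over.comp_left]
  rw [← hl, Category.assoc, h1, powPiece, Category.assoc]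

theorem isMonHom_powMap (hcomm : ∀ (T : Over S) (a b : T ⟶ H), a * b = b * a) :
    IsMonHom (powMap H lv hlv) := by
  refine isMonHom_of_mul _ fun T a b => ?_
  let W : ULift.{u} ℕ → T.left.Opens := fun i => T.hom ⁻¹ᵁ level lv hlv i.down
  refine eq_of_cover (fun i => (Over.homMk (W i).ι rfl : Over.mk ((W i).ι ≫ T.hom) ⟶ T))
    (fun x => ⟨⟨lv (T.hom x)⟩, ⟨⟨x, rfl⟩, rfl⟩⟩) fun i => ?_
  haveI : ∀ i, Flat ((W i).ι) := fun i => inferInstance
  have hn : ∀ y, lv ((Over.mk ((W i).ι ≫ T.hom)).hom y) = i.down := fun y => y.2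
  rw [← Category.assoc, MonObj.comp_mul, MonObj.comp_mul, ← Category.assoc, ← Category.assoc,
    comp_powMap lv hlv _ hn, comp_powMap lv hlv _ hn, comp_powMap lv hlv _ hn,
    (show Commute _ _ from hcomm _ _ _).mul_pow]

theorem DSmap_nsmul {U : Scheme.{u}} {M : Type} [AddCommGroup M] {T : Over U} (x : T ⟶ Red.DS U M) (n : ℕ) :
    x ≫ Red.DSmap U (n • AddMonoidHom.id M) = x ^ n := by
  refine DSPts.char_injective ?_
  have h : ∀ n : ℕ, DSPts.char (x ^ n) = DSPts.char x ^ n := by
    intro n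
    induction n with
    | zero => rw [pow_zero, pow_zero, DSPts.char_one]
    | succ n ih => rw [pow_succ, pow_succ, DSPts.char_mul, ih]
  rw [h, char_DSmap]
  refine MonoidHom.ext fun m => ?_
  change DSPts.char x (Multiplicative.ofAdd (n • m.toAdd)) = DSPts.char x m ^ n
  rw [ofAdd_nsmul, map_pow, ofAdd_toAdd]

theorem toBase_pow {U : Scheme.{u}} (g : U ⟶ S) {Y : Over U} (x : Y ⟶ Red.bc g H) (n : ℕ) :
    toBase g (x ^ n) = toBase g x ^ n := by
  induction n with
  | zero => rw [pow_zero, pow_zero, toBase_one]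
  | succ n ih => rw [pow_succ, pow_succ, toBase_mul, ih]

theorem map_powMap {U : Scheme.{u}} (g : U ⟶ S) {n : ℕ} (hn : ∀ y, lv (g y) = n) :
    (Over.pullback g).map (powMap H lv hlv) = (𝟙 (Red.bc g H)) ^ n := by
  refine toBase_injective g ?_
  rw [toBase_pow, ← Category.id_comp ((Over.pullback g).map (powMap H lv hlv)), toBase_map]
  exact comp_powMap lv hlv _ fun y => by
    simp only [Over.mk_hom]
    rw [Scheme.Hom.comp_apply]
    exact hn _

theorem isAffineHom_DS (U : Scheme.{u}) (M : Type) [AddCommGroup M] : IsAffineHom (Red.DS U M).hom :=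
  MorphismProperty.pullback_snd _ _ (inferInstanceAs (IsAffineHom (Spec.map _)))

theorem lft_DS (U : Scheme.{u}) (M : Type) [AddCommGroup M] [Monoid.FG (Multiplicative M)] :
    LocallyOfFiniteType (Red.DS U M).hom := MorphismProperty.pullback_snd _ _ (by
  show LocallyOfFiniteType (Spec.map (CommRingCat.ofHom (algebraMap (ULift.{u} ℤ) _)))
  rw [HasRingHomProperty.Spec_iff (P := @LocallyOfFiniteType), CommRingCat.hom_ofHom,
    RingHom.finiteType_algebraMap]
  infer_instance)

/-- a multiple of the identity factors through a free quotient -/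
theorem exists_free_factor (M : Type) [AddCommGroup M] (hM : AddGroup.FG M) {n : ℕ} (hn : KillsTors n M) :
    ∃ (r : ℕ) (i : (Fin r → ℤ) →+ M) (p : M →+ (Fin r → ℤ)), Function.Injective i ∧ Function.Surjective p ∧
      i.comp p = n • AddMonoidHom.id M := by
  haveI : Module.Finite ℤ M := Module.Finite.iff_addGroup_fg.2 hM
  let ν : M →+ M := n • AddMonoidHom.id M
  let A := AddSubgroup.toIntSubmodule ν.range
  haveI : Module.Finite ℤ A := inferInstance
  haveI : Module.IsTorsionFree ℤ A := by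
    refine Module.IsTorsionFree.mk fun a ha => ?_
    intro x y hxy
    obtain ⟨_, m, rfl⟩ := x
    obtain ⟨_, m', rfl⟩ := y
    refine Subtype.ext ?_
    have h : a • ν m = a • ν m' := congrArg Subtype.val hxy
    have h' : IsOfFinAddOrder (m - m') ∨ n = 0 := by
      rcases Nat.eq_zero_or_pos n with h0 | h0
      · exact Or.inr h0
      · left
        have ha0 : a ≠ 0 := IsRegular.ne_zero ha
        refine isOfFinAddOrder_iff_zsmul_eq_zero.2 ⟨a * n, mul_ne_zero ha0 (by exact_mod_cast h0.ne'), ?_⟩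
        have h3 : ∀ x, ν x = (n : ℤ) • x := fun x => by simp [ν]
        rw [h3, h3] at h
        rw [mul_smul, smul_sub, smul_sub, h, sub_self]
    change ν m = ν m'
    rcases h' with h' | h'
    · have := hn _ h'
      rw [smul_sub, sub_eq_zero] at this
      simpa [ν] using this
    · simp [ν, h']
  haveI : Module.Free ℤ A := Module.free_of_finite_type_torsion_free'
  let e : A ≃+ (Fin (Module.finrank ℤ A) → ℤ) := (Module.finBasis ℤ A).equivFun.toAddEquiv
  refine ⟨_, ν.range.subtype.comp e.symm.toAddMonoidHom, e.toAddMonoidHom.comp ν.rangeRestrict,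
    Subtype.val_injective.comp e.symm.injective, e.surjective.comp ν.rangeRestrict_surjective, ?_⟩
  ext m
  simp [ν]
  show ((e.symm (e (ν.rangeRestrict m))) : M) = n • m
  rw [AddEquiv.symm_apply_apply]
  rfl

/-- the image of the power map is a torus -/
theorem exists_torus_image [IsAffineHom H.hom] {S' : Scheme.{u}} (f : S' ⟶ S) [Flat f] (hsurj : Surjective f)
    (hqc : ∀ V : S.Opens, IsAffineOpen V → ∃ W : S'.Opens, IsCompact (W : Set S') ∧ f.base '' (W : Set S') = (V : Set S))
    (hcomm : ∀ (T : Over S) (a b : T ⟶ H), a * b = b * a)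
    (hloc : ∀ z : S', ∃ U : S'.Opens, z ∈ U ∧ ∃ (M : Type) (_ : AddCommGroup M), AddGroup.FG M ∧ IsChart H f U M ∧
      ∀ z' ∈ U, lv (f z') = lv (f z) ∧ KillsTors (lv (f z)) M) :
    ∃ (Q : Over S) (_ : GrpObj Q) (j : Q ⟶ H) (q : H ⟶ Q), IsMonHom j ∧ IsMonHom q ∧ IsClosedImmersion j.left ∧
      Flat q.left ∧ Surjective q.left ∧ q ≫ j = powMap H lv hlv ∧ Red.IsTorus Q := by
  haveI := isMonHom_powMap lv hlv hcomm
  have key : ∀ z : S', ∃ U : S'.Opens, z ∈ U ∧ ∃ (r : ℕ) (π : Red.bc (U.ι ≫ f) H ⟶ Red.DS U.toScheme (Fin r → ℤ))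
      (v : Red.DS U.toScheme (Fin r → ℤ) ⟶ Red.bc (U.ι ≫ f) H), IsMonHom π ∧ IsMonHom v ∧ Flat π.left ∧
      Surjective π.left ∧ IsClosedImmersion v.left ∧ π ≫ v = (Over.pullback (U.ι ≫ f)).map (powMap H lv hlv) := by
    intro z
    obtain ⟨U, hzU, M, _, hM, ⟨e⟩, hU⟩ := hloc z
    obtain ⟨r, i, p, hi, hp, hip⟩ := exists_free_factor M hM (hU z hzU).2
    let ε : Red.bc (U.ι ≫ f) H ⟶ Red.DS U.toScheme M := e.hom.hom.hom
    let ε' : Red.DS U.toScheme M ⟶ Red.bc (U.ι ≫ f) H := e.inv.hom.hom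
    haveI : IsMonHom ε := e.hom.hom.isMonHom_hom
    haveI : IsMonHom ε' := e.inv.hom.isMonHom_hom
    have hεε : ε ≫ ε' = 𝟙 _ := congr($(e.hom_inv_id).hom.hom)
    haveI : IsIso ε := ⟨ε', hεε, congr($(e.inv_hom_id).hom.hom)⟩
    haveI : IsIso ε' := ⟨ε, congr($(e.inv_hom_id).hom.hom), hεε⟩
    haveI : IsMonHom (Red.DSmap U.toScheme i) := TorusTorsion.isMonHom_DSmap _ _
    haveI : IsMonHom (Red.DSmap U.toScheme p) := TorusTorsion.isMonHom_DSmap _ _
    obtain ⟨hfl, hsu, -⟩ := DSmap_cover (S := U.toScheme) i hi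
    haveI := hfl
    haveI := hsu
    haveI : IsIso ε.left := inferInstanceAs (IsIso ((Over.forget _).map ε))
    haveI : IsIso ε'.left := inferInstanceAs (IsIso ((Over.forget _).map ε'))
    haveI : Module.Finite ℤ M := Module.Finite.iff_addGroup_fg.2 hM
    haveI := monoidFG_of_addGroupFG hM
    haveI := isAffineHom_DS U.toScheme M
    haveI := lft_DS U.toScheme M
    haveI : Mono (Red.DSmap U.toScheme p) := mono_DSmap p hp
    haveI : IsClosedImmersion (Red.DSmap U.toScheme p).left := MonoClosed.isClosedImmersion_DS _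
    refine ⟨U, hzU, r, ε ≫ Red.DSmap _ i, Red.DSmap _ p ≫ ε', inferInstance, inferInstance, ?_, ?_, ?_, ?_⟩
    · rw [Over.comp_left]; infer_instance
    · rw [Over.comp_left]; infer_instance
    · rw [Over.comp_left]; infer_instance
    · have hn : ∀ y, lv ((U.ι ≫ f) y) = lv (f z) := fun y => by
        rw [Scheme.Hom.comp_apply]
        exact (hU _ y.2).1
      rw [map_powMap lv hlv _ hn, Category.assoc, ← Category.assoc (Red.DSmap _ i), TorusTorsion.DSmap_comp, hip,
        ← Category.assoc, DSmap_nsmul, pow_comp', hεε]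
  haveI : QuasiCompact (powMap H lv hlv).left := by
    have : QuasiCompact ((powMap H lv hlv).left ≫ H.hom) := by rw [Over.w]; infer_instance
    exact QuasiCompact.of_comp _ H.hom
  choose U hU r π v hπ hv hπf hπs hvc hπv using key
  obtain ⟨Q, hQ, j, hjm, q, hqm, hjc, -, hqf, hqs, hqj, hchar⟩ := SchImage.exists_image (powMap H lv hlv) f hsurj hqc
    fun z => ⟨U z, hU z, Red.DS (U z).toScheme (Fin (r z) → ℤ), inferInstance,
      isMultTypeFT_DS _ _ (Module.Finite.iff_addGroup_fg.1 inferInstance), π z, v z, hπ z, hv z, hπf z, hπs z,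
      hvc z, hπv z⟩
  refine ⟨Q, hQ, j, q, hjm, hqm, hjc, hqf, hqs, hqj, S', f, inferInstance, hsurj, hqc, fun z => ?_⟩
  obtain ⟨ε, hε, -⟩ := hchar z (U z) _ (π z) (v z) (hU z) (hπf z) (hπs z) (hvc z) (hπv z)
  haveI := hvc z
  haveI : Mono (v z) := Over.mono_of_mono_left _
  haveI := hv z
  haveI := isMonHom_map ((U z).ι ≫ f) j
  haveI : IsMonHom ε.hom := isMonHom_of_comp_mono ε.hom (v z) (by rw [hε]; infer_instance)
  exact ⟨U z, hU z, r z, ⟨Grp.mkIso' ε⟩⟩

end Groth.L25.MaxTorus
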