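import Groth.Agent.L25.MaxTorus.Image
import Groth.Agent.L25.Central
import Groth.Agent.L25.Locus.FixedConn

/-!
# Every subtorus factors through the image of the power map: the maximal torus
-/

set_option autoImplicit false
universe u

open CategoryTheory CategoryTheory.Limits MonoidalCategory CartesianMonoidalCategory AlgebraicGeometry
open TopologicalSpace
open scoped MonObj

set_option backward.isDefEq.respectTransparency.types false
set_option linter.style.haveILetI false

noncomputable section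

namespace Groth.L25.MaxTorus

open Groth.L25.SplitSub Groth.L25.NilAction Groth.L25.Central

variable {S : Scheme.{u}} {H : Over S} [GrpObj H] (lv : S → ℕ) (hlv : ∀ n, IsOpen {s | lv s = n})

/-- a homomorphism from a torus factors through the image of the power map -/
theorem exists_factor_torus (hpos : ∀ s, 0 < lv s) {Q : Over S} (jQ : Q ⟶ H) [IsClosedImmersion jQ.left]
    (q : H ⟶ Q) (hqj : q ≫ jQ = powMap H lv hlv) {S₁ : Scheme.{u}} (g : S₁ ⟶ S) {R : Over S₁} [GrpObj R]
    (hR : Red.IsTorus R) (x : R ⟶ Red.bc g H) [IsMonHom x] : ∃ w, w ≫ (Over.pullback g).map jQ = x := by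
  obtain ⟨S'', f, hfl, hsurj, -, hloc⟩ := hR
  haveI := hfl
  haveI : IsClosedImmersion ((Over.pullback g).map jQ).left :=
    MorphismProperty.of_isPullback (SchImage.isPullback_fst_map g jQ) ‹IsClosedImmersion jQ.left›
  choose V hzV r hr using hloc
  let W : S'' → S''.Opens := fun z => V z ⊓ (f ≫ g) ⁻¹ᵁ level lv hlv (lv ((f ≫ g) z))
  let d : ∀ z, (W z).toScheme ⟶ S₁ := fun z => (W z).ι ≫ f
  let Y : S'' → Over S₁ := fun z => Over.mk ((Red.bc (d z) R).hom ≫ d z)
  let π : ∀ z, Y z ⟶ R := fun z => toBase (d z) (𝟙 (Red.bc (d z) R))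
  let c : ∀ z, Y z ⟶ R := fun z => toBase (d z) ((𝟙 (Red.bc (d z) R)) ^ lv ((f ≫ g) z))
  have hchart : ∀ z, Nonempty (Grp.mk (Red.bc (d z) R) ≅ Grp.mk (Red.DS (W z).toScheme (Fin (r z) → ℤ))) := fun z => by
    obtain ⟨e⟩ := hr z
    exact ⟨TrivLocus.restrictIso ((V z).ι ≫ f) (S''.homOfLE inf_le_left) e (by
      rw [← Category.assoc, Scheme.homOfLE_ι])⟩
  have hc : ∀ z, Flat (c z).left ∧ Set.range (pullback.fst R.hom (d z)) ⊆ Set.range (c z).left := by
    intro z
    obtain ⟨e⟩ := hchart z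
    let n := lv ((f ≫ g) z)
    let ε : Red.bc (d z) R ⟶ Red.DS (W z).toScheme (Fin (r z) → ℤ) := e.hom.hom.hom
    let ε' : Red.DS (W z).toScheme (Fin (r z) → ℤ) ⟶ Red.bc (d z) R := e.inv.hom.hom
    haveI : IsMonHom ε' := e.inv.hom.isMonHom_hom
    have hεε : ε ≫ ε' = 𝟙 _ := congr($(e.hom_inv_id).hom.hom)
    haveI : IsIso ε := ⟨ε', hεε, congr($(e.inv_hom_id).hom.hom)⟩
    haveI : IsIso ε' := ⟨ε, congr($(e.inv_hom_id).hom.hom), hεε⟩
    haveI : IsIso ε.left := inferInstanceAs (IsIso ((Over.forget _).map ε))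
    haveI : IsIso ε'.left := inferInstanceAs (IsIso ((Over.forget _).map ε'))
    obtain ⟨h1, h2, -⟩ := DSmap_cover (S := (W z).toScheme) (n • AddMonoidHom.id (Fin (r z) → ℤ)) (fun a b h => by
      have hn : (n : ℤ) ≠ 0 := by exact_mod_cast (hpos _).ne'
      have h' : n • a = n • b := h
      funext i
      have := congrFun h' i
      rw [Pi.smul_apply, Pi.smul_apply, nsmul_eq_mul, nsmul_eq_mul] at this
      exact mul_left_cancel₀ hn this)
    haveI := h1
    haveI := h2
    have hpow : (𝟙 (Red.bc (d z) R)) ^ n = ε ≫ Red.DSmap _ (n • AddMonoidHom.id _) ≫ ε' := by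
      rw [← Category.assoc, DSmap_nsmul, pow_comp', hεε]
    have hcl : (c z).left = (ε ≫ Red.DSmap _ (n • AddMonoidHom.id _) ≫ ε').left ≫ pullback.fst R.hom (d z) := by
      rw [← hpow]
      rfl
    haveI : Flat (pullback.fst R.hom (d z)) := MorphismProperty.pullback_fst _ _ (inferInstance : Flat (d z))
    refine ⟨?_, ?_⟩
    · rw [hcl, Over.comp_left, Over.comp_left]
      infer_instance
    · haveI : Surjective (ε ≫ Red.DSmap _ (n • AddMonoidHom.id _) ≫ ε').left := by
        rw [Over.comp_left, Over.comp_left]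
        infer_instance
      rintro _ ⟨y, rfl⟩
      obtain ⟨y', hy'⟩ := (ε ≫ Red.DSmap _ (n • AddMonoidHom.id _) ≫ ε').left.surjective y
      exact ⟨y', by rw [hcl, Scheme.Hom.comp_apply, hy']⟩
  haveI : ∀ z, Flat (c z).left := fun z => (hc z).1
  refine SchImage.exists_lift_of_cover ((Over.pullback g).map jQ) c (fun y => ?_) fun z => ?_
  · obtain ⟨z, hz⟩ := hsurj.surj (R.hom y)
    obtain ⟨t, ht, -⟩ := Scheme.Pullback.exists_preimage_pullback (f := R.hom) (g := d z) y ⟨z, hzV z, rfl⟩ (by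
      rw [Scheme.Hom.comp_apply]
      exact hz.symm)
    exact ⟨z, (hc z).2 ⟨t, ht⟩⟩
  · refine ⟨π z ≫ x ≫ (Over.pullback g).map q, ?_⟩
    have h1 : c z ≫ x = (π z ≫ x) ^ lv ((f ≫ g) z) := by
      rw [← pow_comp']
      exact congrArg (· ≫ x) (toBase_pow (d z) (𝟙 (Red.bc (d z) R)) _)
    simp only [Category.assoc]
    rw [← Functor.map_comp, hqj, ← Category.assoc (π z), h1]
    refine toBase_injective g ?_
    rw [toBase_map, toBase_pow]
    refine comp_powMap lv hlv _ fun y => ?_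
    change lv (g ((d z) ((Red.bc (d z) R).hom y))) = _
    rw [← Scheme.Hom.comp_apply]
    exact ((Red.bc (d z) R).hom y).2.2

theorem lev_pos {S' : Scheme.{u}} (f : S' ⟶ S) {U : S'.Opens} {M : Type} [AddCommGroup M] (hM : AddGroup.FG M)
    (h : IsChart H f U M) {z : S'} (hz : z ∈ U) : 0 < lev H f (f z) := by
  obtain ⟨n, hn⟩ := exists_killsTors M hM
  exact ((killsAt_iff f hM h hz).1 (Nat.sInf_mem (s := {n | KillsAt H f (f z) n})
    ⟨n, (killsAt_iff f hM h hz).2 hn⟩)).1

/-- the maximal torus of a group of multiplicative type -/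
theorem exists_maximalTorus (hH : SGA3x.IsMultTypeFT H) :
    ∃ (T : Over S) (_ : GrpObj T) (i : T ⟶ H), Red.IsMaximalTorus i ∧
      ∀ (R : Over S) [GrpObj R] (j : R ⟶ H) [IsMonHom j], Red.IsTorus R → ∃ f : R ⟶ T, f ≫ i = j := by
  haveI := isAffineHom_of_multTypeFT hH
  have hcomm : ∀ (T : Over S) (a b : T ⟶ H), a * b = b * a := fun T a b => mul_comm_of_multTypeFT hH a b
  obtain ⟨S', f, hfl, hsurj, hqc, hloc⟩ := hH
  haveI := hfl
  let lv := lev H f
  have hlv : ∀ n, IsOpen {s | lv s = n} := isOpen_lev f hqc hloc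
  have hpos : ∀ s, 0 < lv s := fun s => by
    obtain ⟨z, rfl⟩ := hsurj.surj s
    obtain ⟨U, hzU, M, _, hM, h⟩ := hloc z
    exact lev_pos f hM h hzU
  obtain ⟨Q, hQ, j, q, hjm, -, hjc, -, -, hqj, hQT⟩ := exists_torus_image lv hlv f hsurj hqc hcomm fun z => by
    obtain ⟨U, hzU, M, _, hM, h⟩ := hloc z
    exact ⟨U, hzU, M, _, hM, h, fun z' hz' => ⟨lev_const f hM h hzU hz', killsTors_lev f hM h hzU⟩⟩
  haveI := hjc
  haveI := hjm
  haveI : Mono j := Over.mono_of_mono_left j
  refine ⟨Q, hQ, j, ⟨hjm, inferInstance, hQT, ?_⟩, ?_⟩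
  · intro s T' _ j' _ _ φ hT' hφ
    obtain ⟨w, hw⟩ := exists_factor_torus lv hlv hpos j q hqj (Red.geomPt s) hT' j'
    haveI : Mono ((Over.pullback (Red.geomPt s)).map j) := by
      haveI : IsClosedImmersion ((Over.pullback (Red.geomPt s)).map j).left :=
        MorphismProperty.of_isPullback (SchImage.isPullback_fst_map (Red.geomPt s) j) hjc
      exact Over.mono_of_mono_left _
    refine ⟨w, ?_, ?_⟩
    · rw [← cancel_mono ((Over.pullback (Red.geomPt s)).map j), Category.assoc, hw, Category.id_comp]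
      exact hφ
    · rw [← cancel_mono j', Category.assoc, hφ, Category.id_comp]
      exact hw
  · intro R _ x _ hR
    haveI : IsMonHom ((Over.pullback (𝟙 S)).map x) := MonoClosed.isMonHom_pullbackMap _ _
    obtain ⟨w, hw⟩ := exists_factor_torus lv hlv hpos j q hqj (𝟙 S) (Locus.isTorus_bc hR (𝟙 S))
      ((Over.pullback (𝟙 S)).map x)
    let α : Over.pullback (𝟙 S) ≅ 𝟭 (Over S) := Over.pullbackId
    refine ⟨α.inv.app R ≫ w ≫ α.hom.app Q, ?_⟩
    have h1 := α.hom.naturality j
    have h2 := α.hom.naturality x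
    simp only [Functor.id_map] at h1 h2
    rw [Category.assoc, Category.assoc, ← h1, ← Category.assoc w, hw, h2, ← Category.assoc]
    simp

end Groth.L25.MaxTorus
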