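import Groth.Agent.L25.SplitSub.Rank
import Groth.Agent.L25.SplitSub.ImageMult
import Mathlib.GroupTheory.Finiteness
import Mathlib.GroupTheory.OrderOfElement
import Mathlib.GroupTheory.Exponent

/-!
# The torsion exponent of a group of multiplicative type, and the corresponding power map
-/

set_option autoImplicit false
universe u

open CategoryTheory CategoryTheory.Limits MonoidalCategory CartesianMonoidalCategory AlgebraicGeometry
open TopologicalSpace
open scoped MonObj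

set_option backward.isDefEq.respectTransparency.types false
set_option linter.style.haveILetI false

noncomputable section

namespace Groth.L25.MaxTorus

open Groth.L25.SplitSub

/-- `n` kills the torsion -/
def KillsTors (n : ℕ) (M : Type) [AddCommGroup M] : Prop := ∀ m : M, IsOfFinAddOrder m → n • m = 0

theorem exists_killsTors (M : Type) [AddCommGroup M] (h : AddGroup.FG M) : ∃ n, 0 < n ∧ KillsTors n M := by
  classical
  let P := AddSubgroup.toIntSubmodule (AddCommGroup.torsion M)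
  haveI : Module.Finite ℤ M := Module.Finite.iff_addGroup_fg.2 h
  haveI : Module.Finite ℤ P := inferInstance
  haveI : Finite P := by
    refine Module.finite_of_fg_torsion P ?_
    rintro ⟨x, hx⟩
    obtain ⟨n, hn, hnx⟩ := (isOfFinAddOrder_iff_nsmul_eq_zero.1 hx)
    exact ⟨⟨(n : ℤ), mem_nonZeroDivisors_of_ne_zero (by exact_mod_cast hn.ne')⟩, Subtype.ext (by
      change ((n : ℤ) • x : M) = 0
      rw [natCast_zsmul, hnx])⟩
  exact ⟨Nat.card P, Nat.card_pos, fun m hm =>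
    congrArg Subtype.val (card_nsmul_eq_zero' (G := P) (x := ⟨m, hm⟩))⟩

variable {S : Scheme.{u}} {H : Over S} [GrpObj H]

/-- a splitting on an open of a cover -/
def IsChart (H : Over S) [GrpObj H] {S' : Scheme.{u}} (f : S' ⟶ S) (U : S'.Opens) (M : Type) [AddCommGroup M] :
    Prop :=
  Nonempty (Grp.mk (Red.bc (U.ι ≫ f) H) ≅ Grp.mk (Red.DS U.toScheme M))

theorem isOfFinAddOrder_map {M M' : Type} [AddCommGroup M] [AddCommGroup M'] (φ : M' →+ M) {m : M'}
    (h : IsOfFinAddOrder m) : IsOfFinAddOrder (φ m) := φ.isOfFinAddOrder h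

/-- isomorphic split groups over a field have embedded characters -/
theorem exists_injective {K : Type u} [Field K] {M M' : Type} [AddCommGroup M] [AddCommGroup M']
    (hM : AddGroup.FG M) (hM' : AddGroup.FG M')
    (E : Grp.mk (Red.DS (Spec (CommRingCat.of K)) M) ≅ Grp.mk (Red.DS (Spec (CommRingCat.of K)) M')) :
    ∃ φ : M' →+ M, Function.Injective φ := by
  haveI := monoidFG_of_addGroupFG hM
  haveI := monoidFG_of_addGroupFG hM'
  let a : Red.DS (Spec (CommRingCat.of K)) M ⟶ Red.DS _ M' := E.hom.hom.hom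
  let b : Red.DS (Spec (CommRingCat.of K)) M' ⟶ Red.DS _ M := E.inv.hom.hom
  haveI : IsMonHom a := E.hom.hom.isMonHom_hom
  haveI : IsMonHom b := E.inv.hom.isMonHom_hom
  have hab : a ≫ b = 𝟙 _ := congr($(E.hom_inv_id).hom.hom)
  have hba : b ≫ a = 𝟙 _ := congr($(E.inv_hom_id).hom.hom)
  let s : ↥(Spec (CommRingCat.of K)) := IsLocalRing.closedPoint K
  obtain ⟨U, hU, φ, hφ⟩ := exists_local_DSmap a s
  obtain ⟨U', hU', ψ, hψ⟩ := exists_local_DSmap b s
  have hs : ∀ (V : (Spec (CommRingCat.of K)).Opens), s ∈ V → ∀ y : ↥(Spec (CommRingCat.of K)), y ∈ V :=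
    fun V hV y => (Subsingleton.elim y s) ▸ hV
  refine ⟨φ, ?_⟩
  let δ : M' →+ M' := ψ.comp φ - AddMonoidHom.id M'
  suffices hδ : δ.range = ⊥ by
    intro x y hxy
    have h : ∀ z, ψ (φ z) = z := fun z => by
      have : δ z ∈ δ.range := ⟨z, rfl⟩
      rw [hδ, AddSubgroup.mem_bot] at this
      exact sub_eq_zero.1 this
    rw [← h x, hxy, h y]
  refine eq_bot_iff.2 (le_of_kills (K := K) ⊥ δ.range fun T t _ n hn => ?_)
  obtain ⟨m, rfl⟩ := hn
  have h1 : t ≫ Red.DSmap _ ψ ≫ Red.DSmap _ φ = t := by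
    rw [← Category.assoc, ← hψ T (fun y => hs U' hU' _) t, ← hφ T (fun y => hs U hU _) (t ≫ b), Category.assoc,
      hba, Category.comp_id]
  have h2 := DFunLike.congr_fun (congrArg DSPts.char h1) (Multiplicative.ofAdd m)
  rw [← Category.assoc, char_DSmap, char_DSmap] at h2
  change DSPts.char t (Multiplicative.ofAdd (ψ (φ m))) = DSPts.char t (Multiplicative.ofAdd m) at h2
  change DSPts.char t (Multiplicative.ofAdd (ψ (φ m) - m)) = 1
  rw [ofAdd_sub, div_eq_mul_inv, map_mul, h2, ← map_mul, mul_inv_cancel, map_one]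

theorem killsTors_of_charts {S₁ S₂ : Scheme.{u}} {f₁ : S₁ ⟶ S} {f₂ : S₂ ⟶ S} {U₁ : S₁.Opens} {U₂ : S₂.Opens}
    {M₁ M₂ : Type} [AddCommGroup M₁] [AddCommGroup M₂] (hM₁ : AddGroup.FG M₁) (hM₂ : AddGroup.FG M₂)
    (h₁ : IsChart H f₁ U₁ M₁) (h₂ : IsChart H f₂ U₂ M₂) {z₁ : S₁} (hz₁ : z₁ ∈ U₁) {z₂ : S₂} (hz₂ : z₂ ∈ U₂)
    (hz : f₁ z₁ = f₂ z₂) {n : ℕ} (hn : KillsTors n M₁) : KillsTors n M₂ := by
  obtain ⟨e₁⟩ := h₁
  obtain ⟨e₂⟩ := h₂
  obtain ⟨w, -, -⟩ := Scheme.Pullback.exists_preimage_pullback (f := U₁.ι ≫ f₁) (g := U₂.ι ≫ f₂)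
    ⟨z₁, hz₁⟩ ⟨z₂, hz₂⟩ (by
      rw [Scheme.Hom.comp_apply, Scheme.Hom.comp_apply]
      exact hz)
  let q := (pullback (U₁.ι ≫ f₁) (U₂.ι ≫ f₂)).fromSpecResidueField w
  let E₁ := TrivLocus.restrictIso (U₁.ι ≫ f₁) (q ≫ pullback.fst _ _) e₁ (Category.assoc _ _ _)
  let E₂ := TrivLocus.restrictIso (U₂.ι ≫ f₂) (q ≫ pullback.snd _ _) e₂
    (d := q ≫ pullback.fst _ _ ≫ U₁.ι ≫ f₁) (by rw [Category.assoc, pullback.condition])
  obtain ⟨φ, hφ⟩ := exists_injective hM₁ hM₂ (E₁.symm ≪≫ E₂)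
  intro m hm
  refine hφ ?_
  rw [map_nsmul, map_zero]
  exact hn _ (isOfFinAddOrder_map φ hm)

variable (H) in
/-- `n` kills the torsion of all types over `s` -/
def KillsAt {S' : Scheme.{u}} (f : S' ⟶ S) (s : S) (n : ℕ) : Prop :=
  0 < n ∧ ∀ (z : S') (U : S'.Opens) (M : Type) (_ : AddCommGroup M), AddGroup.FG M → IsChart H f U M → z ∈ U →
    f z = s → KillsTors n M

variable (H) in
/-- the torsion exponent -/
def lev {S' : Scheme.{u}} (f : S' ⟶ S) (s : S) : ℕ := sInf {n | KillsAt H f s n}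

variable {S' : Scheme.{u}} (f : S' ⟶ S)

theorem killsAt_iff {U : S'.Opens} {M : Type} [AddCommGroup M] (hM : AddGroup.FG M) (h : IsChart H f U M)
    {z : S'} (hz : z ∈ U) {n : ℕ} : KillsAt H f (f z) n ↔ 0 < n ∧ KillsTors n M :=
  ⟨fun hn => ⟨hn.1, hn.2 z U M _ hM h hz rfl⟩, fun hn => ⟨hn.1, fun z' U' M' _ hM' h' hz' he =>
    killsTors_of_charts hM hM' h h' hz hz' he.symm hn.2⟩⟩

theorem lev_const {U : S'.Opens} {M : Type} [AddCommGroup M] (hM : AddGroup.FG M) (h : IsChart H f U M)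
    {z z' : S'} (hz : z ∈ U) (hz' : z' ∈ U) : lev H f (f z') = lev H f (f z) := by
  have : {n | KillsAt H f (f z') n} = {n | KillsAt H f (f z) n} := Set.ext fun n =>
    (killsAt_iff f hM h hz').trans (killsAt_iff f hM h hz).symm
  rw [lev, lev, this]

theorem killsTors_lev {U : S'.Opens} {M : Type} [AddCommGroup M] (hM : AddGroup.FG M) (h : IsChart H f U M)
    {z : S'} (hz : z ∈ U) : KillsTors (lev H f (f z)) M := by
  obtain ⟨n, hn⟩ := exists_killsTors M hM
  exact ((killsAt_iff f hM h hz).1 (Nat.sInf_mem (s := {n | KillsAt H f (f z) n}) ⟨n, (killsAt_iff f hM h hz).2 hn⟩)).2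

theorem isOpen_lev [Flat f]
    (hqc : ∀ V : S.Opens, IsAffineOpen V → ∃ W : S'.Opens, IsCompact (W : Set S') ∧ f.base '' (W : Set S') = (V : Set S))
    (hloc : ∀ z : S', ∃ U : S'.Opens, z ∈ U ∧ ∃ (M : Type) (_ : AddCommGroup M), AddGroup.FG M ∧ IsChart H f U M)
    (n : ℕ) : IsOpen {s : S | lev H f s = n} := by
  refine isOpen_of_preimage f hqc _ (isOpen_iff_forall_mem_open.2 fun z hz => ?_)
  obtain ⟨U, hzU, M, _, hM, h⟩ := hloc z
  exact ⟨U, fun z' hz' => (lev_const f hM h hzU hz').trans hz, U.2, hzU⟩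

end Groth.L25.MaxTorus
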